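import Cfsg.Agent.RankTwoApps.InvolCount
import Cfsg.Agent.GWApps.Tools
import Cfsg.Agent.DGroup.NonSimple
import Cfsg.Agent.S0483
import Cfsg.Agent.S0516
import Cfsg.Agent.S0486
import Cfsg.Agent.S4399
import Cfsg.Agent.S4477
import Cfsg.Agent.Solvable.MaximalClass
import Cfsg.Agent.GLElem.PSL2Classes
import Cfsg.Prelude.Def_Sporadic

/-!
Consumers of the semidihedral and wreathed classifications: simple groups of 2-rank two (S0482) and
simple groups whose number of involutions is congruent to one modulo four (S1257).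
-/

set_option autoImplicit false
set_option linter.style.haveILetI false
set_option linter.unusedSectionVars false

universe u

namespace CfsgLib.RankTwoApps

/-- The statement of the semidihedral classification (row S0507) in the universe `u`. -/
def SDStatement : Prop :=
  ∀ (G : Type u) [Group G] [Finite G] [IsSimpleGroup G] (S : Sylow 2 G),
    Cfsg.IsQuasiDihedral (S : Subgroup G) →
    (∃ (F : Type) (_ : Field F) (_ : Fintype F), Fintype.card F % 4 = 3 ∧
        Nonempty (G ≃* Matrix.ProjectiveSpecialLinearGroup (Fin 3) F)) ∨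
      (∃ (F : Type) (_ : Field F) (_ : Fintype F) (q : ℕ), Fintype.card F = q ^ 2 ∧ q % 4 = 1 ∧
        Nonempty (G ≃* Cfsg.PSU 3 F q)) ∨ Cfsg.IsM11 G

/-- The statement of the wreathed classification (row S0523) in the universe `u`. -/
def WStatement : Prop :=
  ∀ (G : Type u) [Group G] [Finite G] [IsSimpleGroup G] (S : Sylow 2 G),
    Cfsg.IsWreathed (S : Subgroup G) →
    (∃ (F : Type) (_ : Field F) (_ : Fintype F), Odd (Fintype.card F) ∧
        Nonempty (G ≃* Matrix.ProjectiveSpecialLinearGroup (Fin 3) F)) ∨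
      (∃ (F : Type) (_ : Field F) (_ : Fintype F) (q : ℕ), Fintype.card F = q ^ 2 ∧ Odd q ∧
        Nonempty (G ≃* Cfsg.PSU 3 F q)) ∨ Cfsg.IsM11 G

variable {G : Type u} [Group G] [Finite G] [IsSimpleGroup G]

theorem not_solvable (hG : ¬ IsMulCommutative G) : ¬ Group.IsSolvable G := fun h =>
  hG ⟨⟨fun a b => IsSimpleGroup.comm_iff_isSolvable.2 h a b⟩⟩

theorem perfect_of_simple (hG : ¬ IsMulCommutative G) : Group.IsPerfect G := by
  refine ⟨((inferInstance : (commutator G).Normal).eq_bot_or_eq_top).resolve_left fun h =>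
    hG ⟨⟨fun a b => ?_⟩⟩⟩
  rw [← commutatorElement_eq_one_iff_mul_comm, ← Subgroup.mem_bot, ← h]
  exact Subgroup.commutator_mem_commutator (Subgroup.mem_top a) (Subgroup.mem_top b)

/-- The dihedral case. -/
theorem dihedral_case (hG : ¬ IsMulCommutative G) (S : Sylow 2 G) {n : ℕ} (hn : 2 ≤ n)
    (hS : Nonempty ((S : Subgroup G) ≃* DihedralGroup n)) :
    (∃ (F : Type) (_ : Field F) (_ : Fintype F), Odd (Fintype.card F) ∧ 3 < Fintype.card F ∧
        Nonempty (G ≃* Matrix.ProjectiveSpecialLinearGroup (Fin 2) F)) ∨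
      Nonempty (G ≃* alternatingGroup (Fin 7)) := by
  haveI := perfect_of_simple hG
  let q : G ⧸ Cfsg.oddCore G ≃* G :=
    (QuotientGroup.quotientMulEquivOfEq (DGroup.oddCore_eq_bot_of_simple hG)).trans
      QuotientGroup.quotientBot
  rcases Cfsg.Agent.S0483.result S n hn hS with ⟨F, i1, i2, h1, h2, ⟨e⟩⟩ | he
  · exact Or.inl ⟨F, i1, i2, h1, h2, ⟨q.symm.trans e⟩⟩
  · obtain ⟨e⟩ := he
    exact Or.inr ⟨q.symm.trans e⟩

/-- Row S0482 from the two classifications. -/
theorem simple_of_rank_two (hSD : SDStatement.{u}) (hW : WStatement.{u})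
    (hG : ¬ IsMulCommutative G) (h2 : Cfsg.PRankLE 2 2 G) :
    (∃ (F : Type) (_ : Field F) (_ : Fintype F), Odd (Fintype.card F) ∧ 5 ≤ Fintype.card F ∧
        Nonempty (G ≃* Matrix.ProjectiveSpecialLinearGroup (Fin 2) F)) ∨
      (∃ (F : Type) (_ : Field F) (_ : Fintype F), Odd (Fintype.card F) ∧
        Nonempty (G ≃* Matrix.ProjectiveSpecialLinearGroup (Fin 3) F)) ∨
      (∃ (F : Type) (_ : Field F) (_ : Fintype F) (q : ℕ), Fintype.card F = q ^ 2 ∧ Odd q ∧
        Nonempty (G ≃* Cfsg.PSU 3 F q)) ∨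
      (∃ (F : Type) (_ : Field F) (_ : Fintype F), Fintype.card F = 16 ∧ Nonempty (G ≃* Cfsg.PSU 3 F 4)) ∨
      Nonempty (G ≃* alternatingGroup (Fin 7)) ∨
      Cfsg.IsM11 G := by
  haveI : Fact (Nat.Prime 2) := ⟨Nat.prime_two⟩
  haveI : Fintype (GaloisField 2 4) := Fintype.ofFinite _
  have hF : Fintype.card (GaloisField 2 4) = 16 := by
    rw [← Nat.card_eq_fintype_card, GaloisField.card 2 4 (by norm_num)]; norm_num
  obtain ⟨S⟩ := (Sylow.nonempty : Nonempty (Sylow 2 G))
  obtain ⟨P⟩ := (Sylow.nonempty : Nonempty (Sylow 2 (Cfsg.PSU 3 (GaloisField 2 4) 4)))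
  rcases Cfsg.Agent.S0516.result hG h2 S hF P with ⟨n, hn, h⟩ | h | h | h
  · rcases dihedral_case hG S hn h with ⟨F, i1, i2, h1, h3, e⟩ | e
    · refine Or.inl ⟨F, i1, i2, h1, ?_, e⟩
      obtain ⟨k, hk⟩ := h1
      omega
    · exact Or.inr (Or.inr (Or.inr (Or.inr (Or.inl e))))
  · rcases hSD G S h with ⟨F, i1, i2, h4, e⟩ | ⟨F, i1, i2, q, hq, h4, e⟩ | hM
    · exact Or.inr (Or.inl ⟨F, i1, i2, Nat.odd_iff.2 (by omega), e⟩)
    · exact Or.inr (Or.inr (Or.inl ⟨F, i1, i2, q, hq, Nat.odd_iff.2 (by omega), e⟩))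
    · exact Or.inr (Or.inr (Or.inr (Or.inr (Or.inr hM))))
  · rcases hW G S h with h' | h' | hM
    · exact Or.inr (Or.inl h')
    · exact Or.inr (Or.inr (Or.inl h'))
    · exact Or.inr (Or.inr (Or.inr (Or.inr (Or.inr hM))))
  · exact Or.inr (Or.inr (Or.inr (Or.inl ⟨_, _, _, hF, Cfsg.Agent.S0486.result hF S P h⟩)))

/-- A simple group has no cyclic or quaternion Sylow 2-subgroup. -/
theorem not_quaternion (hG : ¬ IsMulCommutative G) (S : Sylow 2 G) {n : ℕ} (hn : 1 ≤ n)
    (e : (S : Subgroup G) ≃* QuaternionGroup (2 ^ n)) : False := by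
  haveI : Fact (Nat.Prime 2) := ⟨Nat.prime_two⟩
  obtain ⟨-, z, hz, huniq, -, -⟩ := InvChar.quaternion_facts n hn
  have hone : ∀ x y : ↥(S : Subgroup G), orderOf x = 2 → orderOf y = 2 → x = y := fun x y hx hy =>
    e.injective ((huniq _ (by rw [e.orderOf_eq, hx])).trans (huniq _ (by rw [e.orderOf_eq, hy])).symm)
  have heven : Even (Nat.card G) := by
    rw [even_iff_two_dvd, ← hz, ← e.symm.orderOf_eq, ← Subgroup.orderOf_coe]
    exact orderOf_dvd_natCard _
  have hrank : ∀ E : Subgroup G, ¬ IsKleinFour E := by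
    intro E hE
    haveI := hE
    have hP : IsPGroup 2 E := fun x => ⟨1, by rw [pow_one, sq, IsKleinFour.mul_self]⟩
    obtain ⟨f, hf⟩ := GWApps.embeds_sylow S hP
    haveI : Fintype E := Fintype.ofFinite E
    obtain ⟨a, ha, b, hb, hab⟩ : ∃ a : E, a ≠ 1 ∧ ∃ b : E, b ≠ 1 ∧ a ≠ b := by
      classical
      have h4 : Fintype.card E = 4 := by rw [← Nat.card_eq_fintype_card, IsKleinFour.card_four]
      obtain ⟨a, ha, b, hb, hab⟩ := (Finset.one_lt_card (s := (Finset.univ : Finset E).erase 1)).1 (by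
        rw [Finset.card_erase_of_mem (Finset.mem_univ _), Finset.card_univ, h4]; norm_num)
      exact ⟨a, Finset.ne_of_mem_erase ha, b, Finset.ne_of_mem_erase hb, hab⟩
    have ho : ∀ x : E, x ≠ 1 → orderOf (f x) = 2 := fun x hx => by
      rw [orderOf_injective f hf]
      exact orderOf_eq_prime (by rw [sq, IsKleinFour.mul_self]) hx
    exact hab (hf (hone _ _ (ho a ha) (ho b hb)))
  obtain ⟨z₀, hz₀, N, hN, hodd, hc⟩ := ZStar.exists_central_modulo heven hrank
  have hNbot : N = ⊥ := hN.eq_bot_or_eq_top.resolve_right fun h => by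
    rw [h, Subgroup.card_top] at hodd
    exact Nat.not_even_iff_odd.2 hodd heven
  have hzc : z₀ ∈ Subgroup.center G := Subgroup.mem_center_iff.2 fun g => by
    have h := hc g
    rw [hNbot, Subgroup.mem_bot, mul_inv_eq_one, mul_inv_eq_iff_eq_mul] at h
    exact h.symm
  rcases (inferInstance : (Subgroup.center G).Normal).eq_bot_or_eq_top with h | h
  · rw [h, Subgroup.mem_bot] at hzc
    rw [hzc, orderOf_one] at hz₀
    omega
  · exact hG ⟨⟨fun a b => Subgroup.mem_center_iff.1 (h ▸ Subgroup.mem_top b) a⟩⟩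

/-- A field order with eight dividing the order of the projective special linear group. -/
theorem mod_eight {F : Type} [Field F] [Fintype F] (hodd : Odd (Fintype.card F))
    (h8 : 8 ∣ Nat.card (Matrix.ProjectiveSpecialLinearGroup (Fin 2) F)) :
    Fintype.card F % 8 = 1 ∨ Fintype.card F % 8 = 7 := by
  have h : 2 * Nat.card (Matrix.ProjectiveSpecialLinearGroup (Fin 2) F) =
      Fintype.card F * (Fintype.card F ^ 2 - 1) := PSL2Classes.card_P2_mul hodd
  set q := Fintype.card F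
  have h16 : 16 ∣ q * (q ^ 2 - 1) := by
    rw [← h]
    exact Nat.mul_dvd_mul_left 2 h8
  have h16' : 16 ∣ q ^ 2 - 1 :=
    (Nat.Coprime.dvd_of_dvd_mul_left
      ((show (16 : ℕ) = 2 ^ 4 by norm_num) ▸ Nat.Coprime.pow_left 4 (Nat.coprime_two_left.2 hodd)) h16)
  obtain ⟨k, hk⟩ := hodd
  have hq1 : 1 ≤ q ^ 2 := Nat.one_le_pow _ _ (by omega)
  have hmod : q ^ 2 % 16 = 1 := by omega
  rw [Nat.pow_mod] at hmod
  have hlt : q % 16 < 16 := Nat.mod_lt _ (by norm_num)
  have key : ∀ r < 16, r ^ 2 % 16 = 1 → r % 8 = 1 ∨ r % 8 = 7 := by decide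
  have := key _ hlt hmod
  omega

/-- Row S1257 from the semidihedral classification. -/
theorem simple_of_invol_count (hSD : SDStatement.{u})
    (hI : Nat.card {t : G // orderOf t = 2} % 4 = 1) :
    Nat.card G = 2 ∨ Nonempty (G ≃* alternatingGroup (Fin 7)) ∨ Cfsg.IsM11 G ∨
      (∃ (F : Type) (_ : Field F) (_ : Fintype F), 3 < Fintype.card F ∧
        (Fintype.card F % 8 = 1 ∨ Fintype.card F % 8 = 7) ∧
        Nonempty (G ≃* Matrix.ProjectiveSpecialLinearGroup (Fin 2) F)) ∨
      (∃ (F : Type) (_ : Field F) (_ : Fintype F), Fintype.card F % 4 = 3 ∧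
        Nonempty (G ≃* Matrix.ProjectiveSpecialLinearGroup (Fin 3) F)) ∨
      (∃ (F : Type) (_ : Field F) (_ : Fintype F) (q : ℕ), Fintype.card F = q ^ 2 ∧ q % 4 = 1 ∧
        Nonempty (G ≃* Cfsg.PSU 3 F q)) := by
  haveI : Fact (Nat.Prime 2) := ⟨Nat.prime_two⟩
  by_cases hab : IsMulCommutative G
  · left
    letI : CommGroup G := { (inferInstance : Group G) with mul_comm := fun a b => hab.is_comm.comm a b }
    have hprime : (Nat.card G).Prime := IsSimpleGroup.prime_card
    have hne : Nonempty {t : G // orderOf t = 2} := by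
      by_contra h
      haveI := not_nonempty_iff.1 h
      rw [Nat.card_of_isEmpty] at hI
      omega
    obtain ⟨⟨t, ht⟩⟩ := hne
    exact ((Nat.prime_dvd_prime_iff_eq Nat.prime_two hprime).1 (ht ▸ orderOf_dvd_natCard t)).symm
  obtain ⟨S⟩ := (Sylow.nonempty : Nonempty (Sylow 2 G))
  have hncyc : ¬ IsCyclic (S : Subgroup G) := fun h =>
    not_solvable hab (GWApps.isSolvable_of_cyclic_sylow S h)
  obtain ⟨n, hn⟩ := IsPGroup.iff_card.1 S.2
  have hn2 : 2 ≤ n := by
    by_contra h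
    refine hncyc ?_
    interval_cases n
    · haveI : Subsingleton (S : Subgroup G) := (Nat.card_eq_one_iff_unique.1 (by simpa using hn)).1
      infer_instance
    · exact isCyclic_of_prime_card (p := 2) (by simpa using hn)
  have h4 : 4 ≤ Nat.card (S : Subgroup G) := by
    rw [hn]
    exact (show (4 : ℕ) = 2 ^ 2 by norm_num) ▸ Nat.pow_le_pow_right (by norm_num) hn2
  rw [card_invol_mod_four S h4] at hI
  have hidx : (commutator ↥(S : Subgroup G)).index = 4 :=
    (Cfsg.Agent.S4477.result S.2 hI).resolve_left hncyc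
  have hn3 : 3 ≤ n := by
    by_contra h
    obtain rfl : n = 2 := by omega
    -- a four group has three involutions
    have hexp : ∀ x : ↥(S : Subgroup G), x ^ 2 = 1 := by
      intro x
      obtain ⟨k, hk2, hk⟩ := (Nat.dvd_prime_pow Nat.prime_two).1 (hn ▸ orderOf_dvd_natCard x)
      rcases (show k ≤ 1 ∨ k = 2 by omega) with h | rfl
      · exact orderOf_dvd_iff_pow_eq_one.1 (hk ▸ (pow_dvd_pow 2 h).trans (by norm_num))
      · exact absurd (isCyclic_of_orderOf_eq_card x (hk.trans hn.symm)) hncyc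
    have hcard : Nat.card {t : ↥(S : Subgroup G) // orderOf t = 2} =
        Nat.card {t : ↥(S : Subgroup G) // t ≠ 1} := Nat.card_congr (Equiv.subtypeEquivRight fun t =>
      ⟨fun h e => by rw [e, orderOf_one] at h; omega, fun h => orderOf_eq_prime (hexp t) h⟩)
    classical
    haveI : Fintype ↥(S : Subgroup G) := Fintype.ofFinite _
    rw [hcard, Nat.card_eq_fintype_card, Fintype.card_subtype_compl, Fintype.card_subtype_eq,
      ← Nat.card_eq_fintype_card, hn] at hI
    norm_num at hI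
  have hK := CfsgLib.MaximalClass.klein_of_index hn3 hn hidx
  have hab4 : Nat.card (Abelianization ↥(S : Subgroup G)) = 4 := hidx
  have hexp4 : ∀ x : Abelianization ↥(S : Subgroup G), x ^ 2 = 1 := fun x => by
    have := hK
    rw [sq]
    exact IsKleinFour.mul_self (G := ↥(S : Subgroup G) ⧸ commutator ↥(S : Subgroup G)) x
  rcases Cfsg.Agent.S4399.result S.2 hab4 hexp4 with h | ⟨k, ⟨e⟩⟩ | ⟨k, hk, a, b, ha, hb, hab'⟩ |
    ⟨k, ⟨e⟩⟩
  · rw [hn] at h
    have : n ≤ 2 := (Nat.pow_le_pow_iff_right (by norm_num : 1 < 2)).1 (by rw [h])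
    omega
  · have h2 : 2 ≤ 2 ^ (k + 2) := Nat.le_self_pow (by omega) 2
    rcases dihedral_case hab S h2 ⟨e⟩ with ⟨F, i1, i2, h1, h3, ⟨e'⟩⟩ | e'
    · refine Or.inr (Or.inr (Or.inr (Or.inl ⟨F, i1, i2, h3, mod_eight h1 ?_, ⟨e'⟩⟩)))
      rw [← Nat.card_congr e'.toEquiv]
      have h8 : 8 ∣ Nat.card (S : Subgroup G) := by
        rw [hn]
        exact (show (8 : ℕ) = 2 ^ 3 by norm_num) ▸ pow_dvd_pow 2 hn3
      exact h8.trans (Subgroup.card_subgroup_dvd_card _)
    · exact Or.inr (Or.inl e')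
  · have hq : Cfsg.IsQuasiDihedral ↥(S : Subgroup G) :=
      ⟨k + 3, by omega, by rw [hk], a, b, ha, hb, by
        rw [show k + 3 - 1 = k + 2 by omega]; exact hab'⟩
    rcases hSD G S hq with h | h | h
    · exact Or.inr (Or.inr (Or.inr (Or.inr (Or.inl h))))
    · exact Or.inr (Or.inr (Or.inr (Or.inr (Or.inr h))))
    · exact Or.inr (Or.inr (Or.inl h))
  · exact (not_quaternion hab S (by omega) e).elim

end CfsgLib.RankTwoApps
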