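import Cfsg.Agent.InvChar.UniqueInvolution
import Mathlib.GroupTheory.Sylow
import Mathlib.GroupTheory.GroupAction.Quotient
import Mathlib.GroupTheory.IndexNormal

/-!
The number of involutions of a group and of a Sylow 2-subgroup of order at least four agree modulo four.
-/

set_option autoImplicit false
set_option linter.style.haveILetI false
set_option linter.unusedSectionVars false

universe u

namespace CfsgLib.RankTwoApps

open MulAction

/-- A 2-group acting with all orbits of at least three points has a number of points divisible by four. -/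
theorem four_dvd_of_orbits {W X : Type*} [Group W] [Finite X] [MulAction W X] (hW : IsPGroup 2 W)
    (h : ∀ x : X, 3 ≤ Nat.card (orbit W x)) : 4 ∣ Nat.card X := by
  classical
  haveI : Fintype (orbitRel.Quotient W X) := Fintype.ofFinite _
  rw [Nat.card_congr (selfEquivSigmaOrbits W X), Nat.card_sigma]
  refine Finset.dvd_sum fun ω _ => ?_
  haveI : Fact (Nat.Prime 2) := ⟨Nat.prime_two⟩
  obtain ⟨n, hn⟩ := hW.card_orbit (Quotient.out ω)
  have h3 := h (Quotient.out ω)
  rw [hn] at h3 ⊢
  have : 2 ≤ n := by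
    by_contra hlt
    interval_cases n <;> norm_num at h3
  exact (show (4 : ℕ) = 2 ^ 2 by norm_num) ▸ pow_dvd_pow 2 this

theorem three_le_card {α : Type*} [Finite α] {s : Set α} {a b c : α} (ha : a ∈ s) (hb : b ∈ s)
    (hc : c ∈ s) (hab : a ≠ b) (hac : a ≠ c) (hbc : b ≠ c) : 3 ≤ Nat.card s := by
  classical
  rw [Nat.card_coe_set_eq]
  have h : ({a, b, c} : Set α).ncard = 3 := Set.ncard_eq_three.2 ⟨a, b, c, hab, hac, hbc, rfl⟩
  rw [← h]
  refine Set.ncard_le_ncard ?_ (Set.toFinite s)
  intro x hx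
  simp only [Set.mem_insert_iff, Set.mem_singleton_iff] at hx
  rcases hx with rfl | rfl | rfl <;> assumption

theorem zmod_two : ∀ a : ZMod 2, a = 0 ∨ a = 1 := by decide

variable {G : Type u} [Group G] [Finite G]

theorem mem_of_normalizes (S : Sylow 2 G) {x : G} (hx : x * x = 1)
    (hn : ∀ s ∈ (S : Subgroup G), x * s * x⁻¹ ∈ (S : Subgroup G)) : x ∈ (S : Subgroup G) := by
  haveI : Fact (Nat.Prime 2) := ⟨Nat.prime_two⟩
  have hmem : x ∈ Subgroup.normalizer ((S : Subgroup G) : Set G) := by
    refine Subgroup.mem_normalizer_iff.2 fun s => ⟨hn s, fun h => ?_⟩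
    have h' := hn _ h
    rwa [show x * (x * s * x⁻¹) * x⁻¹ = (x * x) * s * (x * x)⁻¹ by group, hx, one_mul, inv_one,
      mul_one] at h'
  have hX : IsPGroup 2 (Subgroup.zpowers x) := fun y => ⟨1, by
    obtain ⟨k, hk⟩ := Subgroup.mem_zpowers_iff.1 y.2
    refine Subtype.ext ?_
    rw [pow_one, SubmonoidClass.coe_pow, ← hk, sq, ← zpow_add, ← two_mul, zpow_mul,
      zpow_ofNat, sq, hx, one_zpow]
    rfl⟩
  have hle : Subgroup.zpowers x ≤ Subgroup.normalizer ((S : Subgroup G) : Set G) :=
    Subgroup.zpowers_le.2 hmem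
  have h2 : IsPGroup 2 (Subgroup.zpowers x ⊔ (S : Subgroup G) : Subgroup G) :=
    hX.to_sup_of_normal_right' S.2 hle
  have h3 := S.3 h2 le_sup_right
  rw [← h3]
  exact Subgroup.mem_sup_left (Subgroup.mem_zpowers x)

/-- Involutions outside a Sylow 2-subgroup of order at least four come in fours. -/
theorem card_invol_mod_four (S : Sylow 2 G) (hS : 4 ≤ Nat.card (S : Subgroup G)) :
    Nat.card {t : G // orderOf t = 2} % 4 =
      Nat.card {t : ↥(S : Subgroup G) // orderOf t = 2} % 4 := by
  classical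
  haveI : Fact (Nat.Prime 2) := ⟨Nat.prime_two⟩
  let Ω := {t : G // orderOf t = 2 ∧ t ∉ (S : Subgroup G)}
  have hsplit : Nat.card {t : G // orderOf t = 2} =
      Nat.card {t : ↥(S : Subgroup G) // orderOf t = 2} + Nat.card Ω := by
    rw [← Nat.card_sum]
    exact Nat.card_congr
      { toFun := fun t => if h : (t : G) ∈ (S : Subgroup G) then
            Sum.inl ⟨⟨t, h⟩, by rw [Subgroup.orderOf_mk]; exact t.2⟩ else Sum.inr ⟨t, t.2, h⟩
        invFun := fun x => x.elim (fun t => ⟨(t.1 : G), by
          rw [Subgroup.orderOf_coe]; exact t.2⟩) (fun t => ⟨t.1, t.2.1⟩)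
        left_inv := fun t => by
          by_cases h : (t : G) ∈ (S : Subgroup G) <;> simp [h]
        right_inv := fun x => by
          rcases x with ⟨⟨t, ht⟩, h⟩ | ⟨t, h, ht⟩ <;> simp [ht] }
  suffices h : 4 ∣ Nat.card Ω by rw [hsplit]; omega
  -- conjugation
  letI : MulAction ↥(S : Subgroup G) Ω :=
    { smul := fun s t => ⟨(s : G) * t.1 * (s : G)⁻¹, by
        have h := orderOf_injective (MulAut.conj (s : G)).toMonoidHom (MulAut.conj (s : G)).injective t.1
        exact h.trans t.2.1, fun h => t.2.2 (by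
        have := (S : Subgroup G).mul_mem ((S : Subgroup G).mul_mem ((S : Subgroup G).inv_mem s.2) h) s.2
        rwa [show (s : G)⁻¹ * ((s : G) * t.1 * (s : G)⁻¹) * s = t.1 by group] at this)⟩
      one_smul := fun t => Subtype.ext (by show (1 : G) * t.1 * (1 : G)⁻¹ = t.1; group)
      mul_smul := fun a b t => Subtype.ext (by
        show (a : G) * b * t.1 * ((a : G) * b)⁻¹ = a * (b * t.1 * (b : G)⁻¹) * (a : G)⁻¹
        group) }
  have hsmul : ∀ (s : ↥(S : Subgroup G)) (t : Ω), ((s • t : Ω) : G) = s * t.1 * (s : G)⁻¹ :=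
    fun _ _ => rfl
  have hsq : ∀ t : Ω, t.1 * t.1 = 1 := fun t => by
    have h := pow_orderOf_eq_one t.1
    rwa [t.2.1, sq] at h
  have hstab : ∀ t : Ω, stabilizer ↥(S : Subgroup G) t ≠ ⊤ := fun t h => t.2.2 <| by
    refine mem_of_normalizes S (hsq t) fun s hs => ?_
    have h1 := congrArg Subtype.val (mem_stabilizer_iff.1
      (show (⟨s, hs⟩ : ↥(S : Subgroup G)) ∈ stabilizer ↥(S : Subgroup G) t by rw [h]; trivial))
    rw [hsmul] at h1
    have h2 : s * t.1 = t.1 * s := mul_inv_eq_iff_eq_mul.1 h1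
    rw [← h2, mul_inv_cancel_right]
    exact hs
  let st : Ω → Subgroup ↥(S : Subgroup G) := fun t => stabilizer ↥(S : Subgroup G) t
  let Ω₁ := {t : Ω // (st t).index ≠ 2}
  have hΩ₁ : 4 ∣ Nat.card Ω₁ := by
    have hinv : ∀ (s : ↥(S : Subgroup G)) (t : Ω), (st (s • t)).index = (st t).index := fun s t => by
      show (stabilizer _ (s • t)).index = (stabilizer _ t).index
      rw [index_stabilizer, index_stabilizer, orbit_smul]
    letI : MulAction ↥(S : Subgroup G) Ω₁ :=
      { smul := fun s t => ⟨s • t.1, by rw [hinv]; exact t.2⟩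
        one_smul := fun t => Subtype.ext (one_smul _ t.1)
        mul_smul := fun a b t => Subtype.ext (mul_smul a b t.1) }
    refine four_dvd_of_orbits S.2 fun t => ?_
    have hst : stabilizer ↥(S : Subgroup G) t = st t.1 := by
      ext s
      exact ⟨fun h => congrArg Subtype.val h, fun h => Subtype.ext h⟩
    have h1 : (stabilizer ↥(S : Subgroup G) t).index = Nat.card (orbit ↥(S : Subgroup G) t) := by
      rw [index_stabilizer, Nat.card_coe_set_eq]
    rw [← h1, hst]
    have hne : (st t.1).index ≠ 1 := fun h => hstab t.1 (Subgroup.index_eq_one.1 h)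
    have hpos : (st t.1).index ≠ 0 := Subgroup.index_ne_zero_of_finite
    have := t.2
    omega
  let F : Subgroup ↥(S : Subgroup G) → Type u := fun T => {t : Ω // st t = T}
  have hF : ∀ T : Subgroup ↥(S : Subgroup G), T.index = 2 → 4 ∣ Nat.card (F T) := by
    intro T hT
    haveI := Subgroup.normal_of_index_eq_two hT
    have hTne : T ≠ ⊥ := fun h => by
      rw [h, Subgroup.index_bot] at hT
      omega
    obtain ⟨c, hcT, hc1, hcc⟩ := CfsgLib.UniqueInvol.exists_central S.2 T hTne
    obtain ⟨k, hk⟩ := (IsPGroup.iff_orderOf).1 S.2 c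
    obtain ⟨j, rfl⟩ := Nat.exists_eq_succ_of_ne_zero (fun e => hc1 (orderOf_eq_one_iff.1 (by
      rw [hk, e, pow_zero])) : k ≠ 0)
    set z := c ^ 2 ^ j with hz
    have hzT : z ∈ T := T.pow_mem hcT _
    have hzc : ∀ s : ↥(S : Subgroup G), s * z = z * s :=
      Subgroup.mem_center_iff.1 ((Subgroup.center ↥(S : Subgroup G)).pow_mem hcc _)
    have hzo : orderOf z = 2 := by
      rw [hz, orderOf_pow' c (pow_ne_zero _ two_ne_zero), hk,
        Nat.gcd_eq_right (pow_dvd_pow _ j.le_succ), Nat.pow_succ', Nat.mul_div_cancel _ (by positivity)]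
    have hz2 : (z : G) * z = 1 := by
      have h := pow_orderOf_eq_one z
      rw [hzo, sq] at h
      exact congrArg Subtype.val h
    have hzG : ∀ s : ↥(S : Subgroup G), (s : G) * z = z * s := fun s => congrArg Subtype.val (hzc s)
    -- points of the fibre commute with `z`
    have hcom : ∀ t : F T, (z : G) * t.1.1 = t.1.1 * z := fun t => by
      have h : z ∈ st t.1 := by rw [t.2]; exact hzT
      exact mul_inv_eq_iff_eq_mul.1 (congrArg Subtype.val h)
    have hzstab : ∀ (s : ↥(S : Subgroup G)) (t : F T), st (s • t.1) = T := fun s t => by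
      ext x
      show x • (s • t.1) = s • t.1 ↔ x ∈ T
      rw [← mul_smul, ← inv_smul_eq_iff, ← mul_smul]
      have h0 : s⁻¹ * (x * s) ∈ T ↔ x ∈ T := by
        rw [← mul_assoc]
        exact ⟨fun h => by
            have := ‹T.Normal›.conj_mem _ h s
            rwa [show s * (s⁻¹ * x * s) * s⁻¹ = x by group] at this,
          fun h => by simpa using ‹T.Normal›.conj_mem _ h s⁻¹⟩
      rw [← h0]
      have h' : ∀ y, y ∈ T ↔ y • t.1 = t.1 := fun y => (SetLike.ext_iff.1 t.2 y).symm
      rw [h']
    let tr : F T → F T := fun t => ⟨⟨(z : G) * t.1.1, by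
      refine orderOf_eq_prime ?_ fun h => t.1.2.2 ?_
      · rw [sq, mul_assoc, ← mul_assoc t.1.1, ← hcom, mul_assoc, hsq, mul_one, hz2]
      · rw [eq_inv_of_mul_eq_one_right h]
        exact (S : Subgroup G).inv_mem z.2, fun h => t.1.2.2 (by
      have := (S : Subgroup G).mul_mem ((S : Subgroup G).inv_mem z.2) h
      rwa [inv_mul_cancel_left] at this)⟩, by
      ext x
      constructor
      · intro h
        rw [← t.2]
        refine Subtype.ext ?_
        have h1 : (x : G) * ((z : G) * t.1.1) * (x : G)⁻¹ = (z : G) * t.1.1 := congrArg Subtype.val h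
        rw [← mul_assoc, hzG, mul_assoc, mul_assoc, mul_left_cancel_iff, ← mul_assoc] at h1
        exact h1
      · intro h
        rw [← t.2] at h
        have h1 : (x : G) * t.1.1 * (x : G)⁻¹ = t.1.1 := congrArg Subtype.val h
        refine Subtype.ext ?_
        show (x : G) * ((z : G) * t.1.1) * (x : G)⁻¹ = (z : G) * t.1.1
        rw [← mul_assoc, hzG, mul_assoc, mul_assoc, ← mul_assoc (x : G), h1]⟩
    have htr2 : ∀ t, tr (tr t) = t := fun t => Subtype.ext (Subtype.ext (by
      show (z : G) * ((z : G) * t.1.1) = t.1.1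
      rw [← mul_assoc, hz2, one_mul]))
    let τ : Equiv.Perm (F T) := ⟨tr, tr, htr2, htr2⟩
    letI : MulAction ↥(S : Subgroup G) (F T) :=
      { smul := fun s t => ⟨s • t.1, hzstab s t⟩
        one_smul := fun t => Subtype.ext (one_smul _ t.1)
        mul_smul := fun a b t => Subtype.ext (mul_smul a b t.1) }
    let φ : ↥(S : Subgroup G) →* Equiv.Perm (F T) := MulAction.toPermHom _ _
    have hφτ : ∀ s, Commute (φ s) τ := fun s => Equiv.ext fun t => Subtype.ext (Subtype.ext (by
      show (s : G) * ((z : G) * t.1.1) * (s : G)⁻¹ = (z : G) * ((s : G) * t.1.1 * (s : G)⁻¹)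
      rw [← mul_assoc (s : G), hzG]
      group))
    have hτ : τ * τ = 1 := Equiv.ext fun t => htr2 t
    let ψ : Multiplicative (ZMod 2) →* Equiv.Perm (F T) :=
      { toFun := fun e => if Multiplicative.toAdd e = 0 then 1 else τ
        map_one' := by simp
        map_mul' := fun a b => by
          have key : ∀ a b : ZMod 2, (if a + b = 0 then (1 : Equiv.Perm (F T)) else τ) =
              (if a = 0 then 1 else τ) * (if b = 0 then 1 else τ) := by
            intro a b
            rcases zmod_two a with rfl | rfl <;> rcases zmod_two b with rfl | rfl <;>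
              simp [hτ, show (1 : ZMod 2) + 1 = 0 from rfl]
          exact key _ _ }
    let Φ : ↥(S : Subgroup G) × Multiplicative (ZMod 2) →* Equiv.Perm (F T) :=
      { toFun := fun w => φ w.1 * ψ w.2
        map_one' := by simp
        map_mul' := fun a b => by
          have hc : Commute (φ b.1) (ψ a.2) := by
            show Commute (φ b.1) (if _ then 1 else τ)
            split_ifs
            exacts [Commute.one_right _, hφτ _]
          simp only [Prod.fst_mul, Prod.snd_mul, map_mul]
          rw [mul_assoc (φ a.1), ← mul_assoc (φ b.1), hc.eq]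
          simp only [mul_assoc] }
    letI : MulAction (↥(S : Subgroup G) × Multiplicative (ZMod 2)) (F T) := MulAction.compHom _ Φ
    have hW : IsPGroup 2 (↥(S : Subgroup G) × Multiplicative (ZMod 2)) := by
      obtain ⟨n, hn⟩ := IsPGroup.iff_card.1 S.2
      exact IsPGroup.iff_card.2 ⟨n + 1, by
        rw [Nat.card_prod, hn, pow_succ, Nat.card_congr Multiplicative.toAdd, Nat.card_zmod]⟩
    refine four_dvd_of_orbits hW fun t => ?_
    obtain ⟨s, hs⟩ : ∃ s, s ∉ T := by
      by_contra h
      push Not at h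
      rw [(Subgroup.eq_top_iff' T).2 h, Subgroup.index_top] at hT
      omega
    have hne1 : φ s t ≠ t := fun h => hs (by
      rw [← t.2]
      exact congrArg Subtype.val h)
    have hne2 : τ t ≠ t := fun h => by
      have h1 : (z : G) * t.1.1 = t.1.1 := congrArg (fun q : F T => q.1.1) h
      rw [mul_eq_right] at h1
      rw [show z = 1 from Subtype.ext h1, orderOf_one] at hzo
      omega
    have hne3 : φ s t ≠ τ t := fun h => by
      have h1 : (s : G) * t.1.1 * (s : G)⁻¹ = (z : G) * t.1.1 := congrArg (fun q : F T => q.1.1) h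
      refine t.1.2.2 (mem_of_normalizes S (hsq t.1) ?_)
      intro x hx
      have ht2 : t.1.1 * t.1.1 = 1 := hsq t.1
      have hcase : ∀ y : ↥(S : Subgroup G), y ∈ T → t.1.1 * y * t.1.1⁻¹ = y := fun y hy => by
        rw [← t.2] at hy
        rw [← mul_inv_eq_iff_eq_mul.1 (congrArg Subtype.val hy : (y : G) * t.1.1 * (y : G)⁻¹ = t.1.1),
          mul_inv_cancel_right]
      have hts : t.1.1 * s * t.1.1⁻¹ = (z : G) * s := by
        have h2 : (s : G) * t.1.1 = z * t.1.1 * s := by
          rw [← h1]; group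
        have hti : t.1.1⁻¹ = t.1.1 := inv_eq_of_mul_eq_one_right ht2
        rw [hti, mul_assoc, h2, ← mul_assoc t.1.1, ← mul_assoc t.1.1, ← hcom, mul_assoc (z : G),
          ht2, mul_one]
      rcases em ((⟨x, hx⟩ : ↥(S : Subgroup G)) ∈ T) with hxT | hxT
      · rw [hcase ⟨x, hx⟩ hxT]; exact hx
      · have hy : s⁻¹ * ⟨x, hx⟩ ∈ T := (Subgroup.mul_mem_iff_of_index_two hT).2
          (iff_of_false (fun hh => hs (by simpa using T.inv_mem hh)) hxT)
        have hxy : x = (s : G) * ((s⁻¹ * ⟨x, hx⟩ : ↥(S : Subgroup G)) : G) := by simp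
        rw [hxy, show t.1.1 * ((s : G) * ((s⁻¹ * ⟨x, hx⟩ : ↥(S : Subgroup G)) : G)) * t.1.1⁻¹ =
          (t.1.1 * s * t.1.1⁻¹) * (t.1.1 * ((s⁻¹ * ⟨x, hx⟩ : ↥(S : Subgroup G)) : G) * t.1.1⁻¹) by group,
          hts, hcase _ hy]
        exact (S : Subgroup G).mul_mem ((S : Subgroup G).mul_mem z.2 s.2) (SetLike.coe_mem _)
    have m1 : φ s t ∈ orbit (↥(S : Subgroup G) × Multiplicative (ZMod 2)) t :=
      ⟨(s, 1), by show (φ s * ψ 1) t = φ s t; rw [map_one, mul_one]⟩
    have m2 : τ t ∈ orbit (↥(S : Subgroup G) × Multiplicative (ZMod 2)) t :=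
      ⟨(1, Multiplicative.ofAdd 1), by show (φ 1 * τ) t = τ t; rw [map_one, one_mul]⟩
    exact three_le_card (MulAction.mem_orbit_self t) m1 m2 hne1.symm hne2.symm hne3
  -- assembling
  have hdec : Nat.card Ω = Nat.card Ω₁ + Nat.card {t : Ω // (st t).index = 2} := by
    rw [add_comm, ← Nat.card_sum]
    exact (Nat.card_congr (Equiv.sumCompl fun t : Ω => (st t).index = 2)).symm
  rw [hdec]
  refine dvd_add hΩ₁ ?_
  haveI : Fintype {T : Subgroup ↥(S : Subgroup G) // T.index = 2} := Fintype.ofFinite _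
  rw [show Nat.card {t : Ω // (st t).index = 2} =
    Nat.card (Σ T : {T : Subgroup ↥(S : Subgroup G) // T.index = 2}, F T) from Nat.card_congr
    { toFun := fun t => ⟨⟨st t.1, t.2⟩, t.1, rfl⟩
      invFun := fun p => ⟨p.2.1, by rw [p.2.2]; exact p.1.2⟩
      left_inv := fun t => rfl
      right_inv := fun p => by
        obtain ⟨⟨T, hT⟩, ⟨t, ht⟩⟩ := p
        change st t = T at ht
        subst ht
        rfl }, Nat.card_sigma]
  exact Finset.dvd_sum fun T _ => hF T.1 T.2

end CfsgLib.RankTwoApps
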